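import Groth.Agent.Lib.PnStable.Dual
import Groth.Agent.Lib.PnOmega.NegOne
import Groth.Agent.Lib.Bott.Euler
import Groth.Agent.Lib.Modules.ExtPowTwist
import Groth.Agent.Lib.FundLocal.ExtPowExists
import Groth.Agent.Lib.ShStab.SimpleEnd
import Groth.Agent.Lib.PicProj.Main
import Groth.Agent.Lib.ProjCoh.Gen
import Groth.Agent.Lib.Cyc.SmoothReg

/-!
# Nonzero endomorphisms of stable rank two bundles on `P^n` are isomorphisms
-/

set_option autoImplicit false
set_option linter.style.haveILetI false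
universe u

open CategoryTheory CategoryTheory.Limits AlgebraicGeometry
open CategoryTheory.Abelian

noncomputable section

namespace Groth.Agent.Lib.PnStable.Main

open Groth.Agent.Lib TensorMod.Basic ProjCoh ProjCoh.Coherent CurveBundle

variable {n : ℕ} {k : Type u} [Field k]

theorem mono_tmap_left {X : Scheme.{u}} {N : X.Modules} (hN : PicF.IsInvertible N) {A B : X.Modules} (f : A ⟶ B)
    [Mono f] : Mono (tmap f (𝟙 N)) := by
  haveI : (tensorBy N).IsEquivalence := CurveBundle.Twist.isEquivalence hN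
  exact (inferInstance : Mono ((tensorBy N).map f))

theorem mono_step {X : Scheme.{u}} {A A' N : X.Modules} (hN : PicF.IsInvertible N) (e : A' ≅ CohB1.tensorMod A N)
    (ν : A ⟶ Coh.structureModule X) [Mono ν] (μ : N ⟶ Coh.structureModule X) [Mono μ] :
    ∃ z : A' ⟶ Coh.structureModule X, Mono z := by
  haveI := mono_tmap_left hN ν
  exact ⟨e.hom ≫ tmap ν (𝟙 N) ≫ (leftUnit _).hom ≫ μ, inferInstance⟩

theorem exists_mono_twNeg : ∀ d : ℕ, ∃ ν : tw n k (-(d : ℤ)) ⟶ Coh.structureModule (CohB1.ProjSpace n k), Mono ν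
  | 0 => ⟨(eqToIso (by simp) ≪≫ twZero (n := n) (R := k)).hom, inferInstance⟩
  | d + 1 => by
    obtain ⟨ν, hν⟩ := exists_mono_twNeg d
    obtain ⟨μ, hμ⟩ : ∃ μ : tw n k (-1) ⟶ Coh.structureModule (CohB1.ProjSpace n k), Mono μ :=
      PnOmega.exists_mono_twNegOne n k
    exact mono_step (isInvertible_tw (-1))
      (eqToIso (congrArg (tw n k) (by push_cast; ring : -((d + 1 : ℕ) : ℤ) = -(d : ℤ) + -1)) ≪≫
        (twTensor (n := n) (R := k) (-(d : ℤ)) (-1)).symm) ν μ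

/-- If `H⁰(E(k₀)) = 0` there are no maps `O(a) ⟶ E(m)` for `a ≥ m - k₀`. -/
theorem hom_eq_zero {E : (CohB1.ProjSpace n k).Modules} (hE : FlatMod.IsFinLocFree E) {k₀ m a : ℤ}
    (h0 : Subsingleton (Coh.HH (CohB1.ProjSpace n k) (CohB1.tensorMod E (tw n k k₀)) 0))
    (ha : m - k₀ ≤ a) (f : tw n k a ⟶ CohB1.tensorMod E (tw n k m)) : f = 0 := by
  obtain ⟨d, hd⟩ : ∃ d : ℕ, m - a = k₀ + -(d : ℤ) := ⟨(a - m + k₀).toNat, by omega⟩
  obtain ⟨ν, hν⟩ := exists_mono_twNeg (n := n) (k := k) d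
  let j : tw n k (m - a) ⟶ tw n k k₀ :=
    (eqToIso (congrArg (tw n k) hd) ≪≫ (twTensor (n := n) (R := k) _ _).symm).hom ≫
      tmap (𝟙 _) ν ≫ (rightUnit _).hom
  haveI : Mono (tmap (𝟙 (tw n k k₀)) ν) := Modules.DualBasis.mono_tmap
    (Modules.DualBasis.hasDBases_of_isFinLocFree
      (TensorMod.LocFree.of_rank (TensorMod.LocFree.of_isInvertible (isInvertible_tw k₀)))) ν
  haveI : Mono j := @mono_comp _ _ _ _ _ _ inferInstance _ (mono_comp _ _)
  haveI : Mono (tmap (𝟙 E) j) :=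
    Modules.DualBasis.mono_tmap (Modules.DualBasis.hasDBases_of_isFinLocFree hE) j
  refine PnOmega.eq_zero_of_tmap (isInvertible_tw (-a)) f ?_
  let e : CohB1.tensorMod (CohB1.tensorMod E (tw n k m)) (tw n k (-a)) ≅ CohB1.tensorMod E (tw n k (m - a)) :=
    assoc _ _ _ ≪≫ tensorIso (Iso.refl E) (twTensor (n := n) (R := k) m (-a) ≪≫ eqToIso (congrArg (tw n k) (by ring)))
  have hz : (twCancel (n := n) (R := k) a (-a) (add_neg_cancel a)).inv ≫ tmap f (𝟙 _) ≫ e.hom ≫ tmap (𝟙 E) j = 0 :=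
    ((Horrocks.subsingleton_hom_iff _).2 h0).elim _ _
  have h1 := (cancel_epi (twCancel (n := n) (R := k) a (-a) (add_neg_cancel a)).inv).1 (hz.trans comp_zero.symm)
  rw [← Category.assoc] at h1
  exact (cancel_mono e.hom).1 (((cancel_mono (tmap (𝟙 E) j)).1 (h1.trans zero_comp.symm)).trans zero_comp.symm)

/-- An epimorphic endomorphism of a coherent module is an isomorphism. -/
theorem isIso_of_epi {X : Scheme.{u}} [IsLocallyNoetherian X] {F : X.Modules} (hF : Coh.IsCoh F) (φ : F ⟶ F)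
    [Epi φ] : IsIso φ := by
  refine (Modules.StalkModule.isIso_iff_stalkMapₗ_bijective φ).2 fun x => ?_
  haveI := RefHull.Reflexive.finite_stalk hF x
  have h := (Modules.StalkModule.epi_iff_stalkMapₗ_surjective φ).1 inferInstance x
  exact ⟨OrzechProperty.injective_of_surjective_endomorphism _ h, h⟩

/-- An endomorphism of a generated module which is injective on global sections is an isomorphism. -/
theorem isIso_of_injective {F : (CohB1.ProjSpace n k).Modules} (hF : Coh.IsCoh F) {N : ℕ}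
    (p : FlatMod.freeMod (CohB1.ProjSpace n k) N ⟶ F) [Epi p] (φ : F ⟶ F)
    (h : ∀ f : Coh.structureModule (CohB1.ProjSpace n k) ⟶ F, f ≫ φ = 0 → f = 0) : IsIso φ := by
  obtain ⟨e⟩ := Horrocks.nonempty_homEquiv F
  haveI : Module.Finite k (Coh.HH (CohB1.ProjSpace n k) F 0) := ProjCoh.Coherent.finite_HH F hF 0
  haveI := Module.Finite.equiv e.symm
  let T := CategoryTheory.Linear.rightComp k (Coh.structureModule (CohB1.ProjSpace n k)) φ
  have hT : Function.Surjective T :=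
    LinearMap.surjective_of_injective ((injective_iff_map_eq_zero T).2 fun f hf => h f hf)
  choose g hg using fun i => hT (Sigma.ι (fun _ : Fin N => Coh.structureModule (CohB1.ProjSpace n k)) i ≫ p)
  have hq : (Sigma.desc g : FlatMod.freeMod (CohB1.ProjSpace n k) N ⟶ F) ≫ φ = p :=
    Sigma.hom_ext _ _ fun i => (Sigma.ι_desc_assoc _ _ _).trans (hg i)
  haveI : Epi φ := epi_of_epi_fac hq
  exact isIso_of_epi hF φ

variable [IsAlgClosed k]

/-- On `P^n`, a nonzero endomorphism of a rank two bundle with `H⁰` of its normalised twist zero is invertible. -/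
theorem isIso_of_ne_zero {E : (CohB1.ProjSpace n k).Modules} (hE : FlatMod.IsFinLocFreeOfRank 2 E) {c k₀ : ℤ}
    {L₀ : (CohB1.ProjSpace n k).Modules} (hL₀ : ExtPow.IsExtPow 2 E L₀) (eL : L₀ ≅ tw n k c)
    (hk₀ : c + 2 * k₀ = 0 ∨ c + 2 * k₀ = -1)
    (h0 : Subsingleton (Coh.HH (CohB1.ProjSpace n k) (CohB1.tensorMod E (tw n k k₀)) 0))
    (ψ : E ⟶ E) (hψ : ψ ≠ 0) : IsIso ψ := by
  haveI : IsProper (CohB1.ProjSpace n k ↘ Spec (CommRingCat.of k)) := ProjSpace.Basic.isProper_toSpec n k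
  haveI : IsNoetherian (CohB1.ProjSpace n k) := Curves.GlobalSections.isNoetherian_of_proper k _
  have hEf := TensorMod.LocFree.of_rank hE
  obtain ⟨m₀, hm₀⟩ := Ample.GG.eventually_genAt_twist (HProj.QuasiProj.isAmple_twist_projSpace n k) E
    (Perfect.Coherent.isCoh_of_isFinLocFree hEf)
  obtain ⟨jp⟩ := nonempty_tensorPow_iso (n := n) (R := k) m₀
  have hgen : ∀ x, Ample.GG.GenAt (CohB1.tensorMod E (tw n k (m₀ : ℤ))) x :=
    fun x => (hm₀ m₀ le_rfl x).of_iso (tensorIso (Iso.refl E) jp.symm)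
  generalize (m₀ : ℤ) = m at hgen
  have hN : PicF.IsInvertible (tw n k m) := isInvertible_tw m
  haveI : (tensorBy (tw n k m)).IsEquivalence := CurveBundle.Twist.isEquivalence hN
  suffices H : IsIso ((tensorBy (tw n k m)).map ψ) from isIso_of_fully_faithful (tensorBy (tw n k m)) ψ
  have hF : FlatMod.IsFinLocFreeOfRank 2 (CohB1.tensorMod E (tw n k m)) := by
    simpa using TensorMod.LocFree.rank_tensorMod hE (TensorMod.LocFree.of_isInvertible hN)
  have hFc : Coh.IsCoh (CohB1.tensorMod E (tw n k m)) :=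
    Perfect.Coherent.isCoh_of_isFinLocFree (TensorMod.LocFree.of_rank hF)
  have hφ0 : (tensorBy (tw n k m)).map ψ ≠ 0 := fun h => hψ (PnOmega.eq_zero_of_tmap hN ψ h)
  obtain ⟨N, p, hp⟩ := ProjCoh.Gen.exists_epi_freeMod hFc hgen
  generalize (tensorBy (tw n k m)).map ψ = φ at hφ0 ⊢
  by_contra hiso
  obtain ⟨f₁, hf₁, hf₁0⟩ : ∃ f : Coh.structureModule (CohB1.ProjSpace n k) ⟶ CohB1.tensorMod E (tw n k m),
      f ≫ φ = 0 ∧ f ≠ 0 := by
    by_contra hall
    push Not at hall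
    exact hiso (isIso_of_injective hFc p φ hall)
  have h₁ : φ.app ⊤ (f₁.app ⊤ (1 : Γ(CohB1.ProjSpace n k, ⊤))) = 0 :=
    congrArg (fun z : Coh.structureModule (CohB1.ProjSpace n k) ⟶ CohB1.tensorMod E (tw n k m) =>
      z.app ⊤ (1 : Γ(CohB1.ProjSpace n k, ⊤))) hf₁
  have hs₁ : f₁.app ⊤ (1 : Γ(CohB1.ProjSpace n k, ⊤)) ≠ 0 := fun h =>
    hf₁0 (Modules.Free.unitHom_ext (h.trans rfl))
  obtain ⟨s₀, h₀⟩ : ∃ s, φ.app ⊤ s ≠ 0 := by
    by_contra hall
    push Not at hall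
    exact hφ0 (Sheaf.eq_zero_of_sections p φ hall)
  haveI : (CohB1.tensorMod E (tw n k m)).IsQuasicoherent := hFc.1
  haveI : E.IsQuasicoherent := (Perfect.Coherent.isCoh_of_isFinLocFree hEf).1
  obtain ⟨LF, hLF⟩ := FundLocal.ExtPowExists.exists_isExtPow (CohB1.tensorMod E (tw n k m)) 2
  have hLF' := hLF
  obtain ⟨φM, hφM⟩ := hLF
  obtain ⟨φN, hφN⟩ := hL₀
  obtain ⟨i⟩ := Modules.ExtPowTwist.nonempty_iso φM hφM φN hφN hN
  obtain ⟨j⟩ := Bott.Euler.nonempty_tensorPow_tw n k m 2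
  let eLF : LF ≅ tw n k (c + 2 * m) :=
    i ≪≫ tensorIso eL j ≪≫ twTensor _ _ ≪≫ eqToIso (by push_cast; rfl)
  have hLFi : PicF.IsInvertible LF := TensorMod.Invertible.isInvertible_of_iso eLF.symm (isInvertible_tw _)
  obtain ⟨J, pr, ι, hJ, hfac⟩ := Sheaf.exists_factor (fun x => Cyc.SmoothReg.isRegularLocalRing_stalk (CohB1.ProjSpace.toSpec n k) x)
    hF hLFi hLF' p φ h₀ hs₁ h₁
  obtain ⟨b, ⟨eJ⟩⟩ := PicProj.Main.exists_twist_iso J hJ
  have hι : ι ≠ 0 := fun h => hφ0 (hfac.symm.trans ((congrArg (pr ≫ ·) h).trans comp_zero))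
  have hb : b < m - k₀ := by
    by_contra hb
    exact hι ((cancel_epi eJ.inv).1 ((hom_eq_zero hEf h0 (le_of_not_gt hb) (eJ.inv ≫ ι)).trans comp_zero.symm))
  obtain ⟨w, hw⟩ := Dual.exists_dual hF hLF' hJ p pr fun h => hφ0 (hfac.symm.trans ((congrArg (· ≫ ι) h).trans zero_comp))
  let e2 : CohB1.tensorMod (CohB1.tensorMod E (tw n k m)) J ≅ CohB1.tensorMod E (tw n k (m + b)) :=
    tensorIso (Iso.refl _) eJ ≪≫ assoc _ _ _ ≪≫ tensorIso (Iso.refl E) (twTensor _ _)
  have := hom_eq_zero hEf (k₀ := k₀) (m := m + b) (a := c + 2 * m) h0 (by omega) (eLF.inv ≫ w ≫ e2.hom)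
  exact hw ((cancel_mono e2.hom).1 (((cancel_epi eLF.inv).1 (this.trans comp_zero.symm)).trans zero_comp.symm))

end Groth.Agent.Lib.PnStable.Main
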