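import Groth.Agent.Lib.PnStable.Main
import Groth.Prelude.Def_ClSub2

/-!
# Sections of a bundle belonging to a codimension two subscheme
-/

set_option autoImplicit false
set_option linter.style.haveILetI false
universe u

open CategoryTheory CategoryTheory.Limits AlgebraicGeometry
open CategoryTheory.Abelian

noncomputable section

namespace Groth.Agent.Lib.PnStable.Serre

open Groth.Agent.Lib TensorMod.Basic ProjCoh ProjCoh.Coherent CurveBundle ProjCoh.Sections

variable {n : ℕ} {k : Type u} [Field k]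

theorem hom_zero_congr {C : Type*} [Category C] [HasZeroMorphisms C] {A A' B B' : C} (a : A ≅ A') (b : B ≅ B')
    (h : ∀ f : A ⟶ B, f = 0) (g : A' ⟶ B') : g = 0 :=
  (cancel_mono b.inv).1 ((cancel_epi a.hom).1
    ((h (a.hom ≫ g ≫ b.inv)).trans (by rw [zero_comp, comp_zero])))

theorem hom_zero_tensor {X : Scheme.{u}} {N : X.Modules} (hN : PicF.IsInvertible N) {A B : X.Modules} :
    (∀ f : CohB1.tensorMod A N ⟶ CohB1.tensorMod B N, f = 0) ↔ ∀ g : A ⟶ B, g = 0 := by
  haveI : (tensorBy N).IsEquivalence := CurveBundle.Twist.isEquivalence hN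
  haveI : (tensorBy N).Additive := GP.additive_tensorBy _
  refine ⟨fun h g => PnOmega.eq_zero_of_tmap hN g (h _), fun h f => ?_⟩
  obtain ⟨g, hg⟩ := (tensorBy N).map_surjective (f : (tensorBy N).obj A ⟶ (tensorBy N).obj B)
  rw [h g, Functor.map_zero] at hg
  exact hg.symm

theorem hom_zero_shift (M : (CohB1.ProjSpace n k).Modules) {a b c : ℤ} (h : a + b = c) :
    (∀ f : tw n k a ⟶ M, f = 0) ↔ ∀ g : tw n k c ⟶ CohB1.tensorMod M (tw n k b), g = 0 :=
  let e : CohB1.tensorMod (tw n k a) (tw n k b) ≅ tw n k c :=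
    twTensor (n := n) (R := k) a b ≪≫ eqToIso (congrArg (tw n k) h)
  ⟨fun hf => hom_zero_congr e (Iso.refl _) ((hom_zero_tensor (isInvertible_tw b)).2 hf),
    fun hg => (hom_zero_tensor (isInvertible_tw b)).1 (hom_zero_congr e.symm (Iso.refl _) hg)⟩

/-- `H⁰(M(b)) = 0` iff there is no nonzero map `O(-b) ⟶ M`. -/
theorem subsingleton_h0_iff (M : (CohB1.ProjSpace n k).Modules) (b : ℤ) :
    Subsingleton (Coh.HH (CohB1.ProjSpace n k) (CohB1.tensorMod M (tw n k b)) 0) ↔
      ∀ f : tw n k (-b) ⟶ M, f = 0 := by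
  rw [hom_zero_shift M (neg_add_cancel b), ← Horrocks.subsingleton_hom_iff]
  refine ⟨fun h => hom_zero_congr (twZero (n := n) (R := k)).symm (Iso.refl _) fun f => h.elim f 0, fun h => ?_⟩
  exact subsingleton_of_forall_eq 0 (hom_zero_congr (twZero (n := n) (R := k)) (Iso.refl _) h)

theorem subsingleton_ext_one [HasExt.{u} (CohB1.ProjSpace n k).Modules] (hn : 2 ≤ n) (a b : ℤ) :
    Subsingleton (Ext.{u} (tw n k a) (tw n k b) 1) := by
  refine SerreDual.subsingleton_ext_iso (twIso a) (twIso b) 1 ?_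
  refine SerreDual.subsingleton_ext_equiv (tensorBy (tw n k (-a))) _ _ 1 ?_
  refine SerreDual.subsingleton_ext_iso
    (SerreDual.tsTensor a (-a) ≪≫ eqToIso (congrArg (TS n k) (add_neg_cancel a)) ≪≫ (Twist.structureIso n k).symm)
    (SerreDual.tsTensor b (-a)) 1 ?_
  have := ProjCoh.Twist.subsingleton_HH_of_ne n k (b + -a) one_ne_zero (by omega : 1 ≠ n)
  exact (ExtHH.Basic.extUnitEquiv k (TS n k (b + -a)) 1).injective.subsingleton

theorem exists_mono_shift {a b : ℤ} (h : a ≤ b) : ∃ ν : tw n k a ⟶ tw n k b, Mono ν := by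
  obtain ⟨ν, hν⟩ := Main.exists_mono_twNeg (n := n) (k := k) (b - a).toNat
  haveI := Main.mono_tmap_left (isInvertible_tw (n := n) (R := k) b) ν
  exact ⟨(eqToIso (congrArg (tw n k) (by rw [Int.toNat_of_nonneg (by omega)]; ring : a = -((b - a).toNat : ℤ) + b)) ≪≫
    (twTensor (n := n) (R := k) _ _).symm).hom ≫ tmap ν (𝟙 _) ≫ (leftUnit _).hom, inferInstance⟩

theorem ne_zero_of_mono {a : ℤ} {M : (CohB1.ProjSpace n k).Modules} (f : tw n k a ⟶ M) [Mono f] : f ≠ 0 :=
  fun h => PnOmega.not_isZero_tw a (IsZero.of_mono_eq_zero f h)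

/-- `H⁰(E(k₀)) = 0` for a bundle belonging to a subscheme with ideal `J`. -/
theorem subsingleton_iff (hn : 2 ≤ n) (S : ShortComplex (CohB1.ProjSpace n k).Modules) (hS : S.ShortExact)
    (I : (CohB1.ProjSpace n k).IdealSheafData) (c k₀ : ℤ)
    (e₁ : S.X₁ ≅ Coh.structureModule (CohB1.ProjSpace n k))
    (e₃ : S.X₃ ≅ CohB1.tensorMod (ClSub.idealMod I) (tw n k c)) :
    Subsingleton (Coh.HH (CohB1.ProjSpace n k) (CohB1.tensorMod S.X₂ (tw n k k₀)) 0) ↔
      (k₀ < 0 ∧ ∀ d : ℤ, d ≤ c + k₀ →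
        Subsingleton (Coh.HH (CohB1.ProjSpace n k) (CohB1.tensorMod (ClSub.idealMod I) (tw n k d)) 0)) := by
  haveI := hS.mono_f
  haveI := hasExt_of_enoughInjectives.{u} (CohB1.ProjSpace n k).Modules
  simp only [subsingleton_h0_iff]
  constructor
  · intro h
    refine ⟨?_, fun d hd g => ?_⟩
    · by_contra hk
      obtain ⟨ν, hν⟩ := Main.exists_mono_twNeg (n := n) (k := k) k₀.toNat
      have hz := h (eqToHom (congrArg (tw n k) (by rw [Int.toNat_of_nonneg (by omega)])) ≫ ν ≫ e₁.inv ≫ S.f)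
      exact ne_zero_of_mono _ hz
    · obtain ⟨ν, hν⟩ := exists_mono_shift (n := n) (k := k) (a := -(c + k₀)) (b := -d) (by omega)
      have hall : ∀ f : tw n k (-k₀) ⟶ CohB1.tensorMod (ClSub.idealMod I) (tw n k c), f = 0 := fun f => by
        obtain ⟨x, hx⟩ := Ext.covariant_sequence_exact₃ _ hS (Ext.mk₀ (f ≫ e₃.inv)) (zero_add 1)
          ((SerreDual.subsingleton_ext_iso (Iso.refl _) (e₁ ≪≫ (twZero (n := n) (R := k)).symm) 1
            (subsingleton_ext_one hn _ _)).elim _ _)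
        obtain ⟨x', rfl⟩ := (Ext.mk₀_bijective _ _).2 x
        rw [h x', Ext.mk₀_zero, Ext.zero_comp] at hx
        exact (cancel_mono e₃.inv).1 (((Ext.mk₀_bijective _ _).1 (hx.symm.trans (Ext.mk₀_zero _ _).symm)).trans zero_comp.symm)
      have h0 : ν ≫ g = 0 :=
        (hom_zero_shift (ClSub.idealMod I) (a := -(c + k₀)) (b := c) (c := -k₀) (by ring)).2 hall _
      haveI : Mono (ClSub.idealModι I) := inferInstanceAs (Mono (kernel.ι _))
      by_contra hg
      have hne : g ≫ ClSub.idealModι I ≠ 0 := fun h1 => hg ((cancel_mono (ClSub.idealModι I)).1 (h1.trans zero_comp.symm))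
      haveI := Horrocks.mono_of_ne_zero (isInvertible_tw (-d)) RefHull.DivSheaf.isInvertible_structure hne
      exact ne_zero_of_mono (ν ≫ g ≫ ClSub.idealModι I) (by rw [← Category.assoc, h0, zero_comp])
  · rintro ⟨hk, hJ⟩ f
    have hfg : f ≫ S.g = 0 := by
      refine (cancel_mono e₃.hom).1 (Eq.trans ?_ zero_comp.symm)
      exact (hom_zero_shift (ClSub.idealMod I) (a := -(c + k₀)) (b := c) (c := -k₀) (by ring)).1
        (hJ _ le_rfl) _
    obtain ⟨x, hx⟩ := KernelFork.IsLimit.lift' hS.fIsKernel f hfg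
    have hx0 : x = 0 := (cancel_mono (e₁.hom ≫ (twZero (n := n) (R := k)).inv ≫ (twIso 0).hom)).1
      ((cancel_epi (twIso (n := n) (R := k) (-k₀)).inv).1
        ((SerreDual.subsingleton_hom_neg (n := n) (R := k) (by omega) (a := -k₀) (b := 0) (by omega)).elim _ _))
    rw [← hx, hx0]
    exact zero_comp

end Groth.Agent.Lib.PnStable.Serre
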