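import Mathlib.LinearAlgebra.ExteriorPower.Basis
import Mathlib.LinearAlgebra.Determinant
import Mathlib.RingTheory.UniqueFactorizationDomain.Basic
import Mathlib.Tactic.LinearCombination
import Mathlib.LinearAlgebra.Matrix.Determinant.Basic

/-!
# Rank two linear algebra over domains
-/

universe u v

namespace Groth.Agent.Lib.PnStable.Alg

open Module

variable {R : Type u} [CommRing R] [IsDomain R] {M : Type v} [AddCommGroup M] [Module R M]

/-- A singular endomorphism of a free module of rank two is zero on the exterior square. -/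
theorem wedge_image (b : Basis (Fin 2) R M) (f : M →ₗ[R] M) {v : M} (hv : v ≠ 0) (hf : f v = 0)
    (y e : M) : exteriorPower.ιMulti R 2 ![f y, f e] = 0 := by
  haveI : Module.Free R M := Module.Free.of_basis b
  have hrel : b.repr v 0 • f (b 0) + b.repr v 1 • f (b 1) = 0 := by
    have h := congrArg f (b.sum_repr v)
    rwa [map_sum, Fin.sum_univ_two, map_smul, map_smul, hf] at h
  set c₀ := f (b 0)
  set c₁ := f (b 1)
  let ω := exteriorPower.ιMulti R 2 (M := M)
  have h0 : b.repr v 0 • ω ![c₀, c₁] = 0 := by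
    have h := ω.map_update_smul ![c₀, c₁] 0 (b.repr v 0) c₀
    have h' := ω.map_update_smul ![c₀, c₁] 0 (-b.repr v 1) c₁
    rw [eq_neg_of_add_eq_zero_left hrel, ← neg_smul, h'] at h
    have hz : ω (Function.update ![c₀, c₁] 0 c₁) = 0 :=
      ω.map_eq_zero_of_eq _ (i := 0) (j := 1) (by simp) (by simp)
    rw [hz, smul_zero] at h
    have e0 : Function.update ![c₀, c₁] 0 c₀ = ![c₀, c₁] := by ext i; fin_cases i <;> simp
    rw [e0] at h
    exact h.symm
  have h1 : b.repr v 1 • ω ![c₀, c₁] = 0 := by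
    have h := ω.map_update_smul ![c₀, c₁] 1 (b.repr v 1) c₁
    have h' := ω.map_update_smul ![c₀, c₁] 1 (-b.repr v 0) c₀
    rw [eq_neg_of_add_eq_zero_right hrel, ← neg_smul, h'] at h
    have hz : ω (Function.update ![c₀, c₁] 1 c₀) = 0 :=
      ω.map_eq_zero_of_eq _ (i := 0) (j := 1) (by simp) (by simp)
    rw [hz, smul_zero] at h
    have e1 : Function.update ![c₀, c₁] 1 c₁ = ![c₀, c₁] := by ext i; fin_cases i <;> simp
    rw [e1] at h
    exact h.symm
  have hω : ω ![c₀, c₁] = 0 := by
    by_contra hne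
    refine hv (b.ext_elem fun i => ?_)
    fin_cases i
    · simpa using (smul_eq_zero.1 h0).resolve_right hne
    · simpa using (smul_eq_zero.1 h1).resolve_right hne
  have hcomp : ω.compLinearMap f = 0 := by
    refine b.ext_alternating fun σ hσ => ?_
    show ω (fun i => f (b (σ i))) = 0
    rcases Fin.exists_fin_two.1 ⟨σ 0, rfl⟩ with h | h <;>
      rcases Fin.exists_fin_two.1 ⟨σ 1, rfl⟩ with h' | h'
    all_goals first
      | exact absurd (hσ (h.trans h'.symm)) (by decide)
      | skip
    · rw [show (fun i => f (b (σ i))) = ![c₀, c₁] from funext fun i => by fin_cases i; exacts [congrArg (fun j => f (b j)) h, congrArg (fun j => f (b j)) h']]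
      exact hω
    · rw [show (fun i => f (b (σ i))) = ![c₁, c₀] from funext fun i => by fin_cases i; exacts [congrArg (fun j => f (b j)) h, congrArg (fun j => f (b j)) h']]
      have hs := ω.map_swap ![c₀, c₁] (i := 0) (j := 1) (by decide)
      rw [hω, neg_zero, show (![c₀, c₁] ∘ Equiv.swap 0 1) = ![c₁, c₀] from funext fun i => by fin_cases i <;> simp] at hs
      exact hs
  have := congrArg (fun g : M [⋀^Fin 2]→ₗ[R] _ => g ![y, e]) hcomp
  refine Eq.trans ?_ this
  exact congrArg ω (funext fun i => by fin_cases i <;> rfl)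

/-- The kernel of a nonzero form on a free module of rank two over a factorial domain is free of rank one. -/
theorem exists_basis_ker [UniqueFactorizationMonoid R] (b : Basis (Fin 2) R M) (θ : M →ₗ[R] R) (hθ : θ ≠ 0) :
    Nonempty (Basis (Fin 1) R (LinearMap.ker θ)) := by
  obtain ⟨p, q, g, hpq, hp, hq⟩ : ∃ p q g, IsRelPrime p q ∧ g * p = θ (b 0) ∧ g * q = θ (b 1) := by
    rcases eq_or_ne (θ (b 0)) 0 with h | h
    · exact ⟨0, 1, θ (b 1), isRelPrime_one_right, by simp [h], by simp⟩
    · exact UniqueFactorizationMonoid.exists_reduced_factors _ h _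
  have hg : g ≠ 0 := by
    rintro rfl
    exact hθ (b.ext fun i => by fin_cases i <;> simp [← hp, ← hq])
  have hθm : ∀ m, θ m = g * (b.repr m 0 * p + b.repr m 1 * q) := fun m => by
    conv_lhs => rw [← b.sum_repr m]
    rw [map_sum, Fin.sum_univ_two, map_smul, map_smul, smul_eq_mul, smul_eq_mul, ← hp, ← hq]
    ring
  set w : M := q • b 0 - p • b 1 with hwdef
  have hw : θ w = 0 := by rw [hwdef, map_sub, map_smul, map_smul, smul_eq_mul, smul_eq_mul, ← hp, ← hq]; ring
  let Φ : R →ₗ[R] LinearMap.ker θ := LinearMap.toSpanSingleton R _ ⟨w, hw⟩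
  refine ⟨(Basis.singleton (Fin 1) R).map (LinearEquiv.ofBijective Φ ⟨?_, ?_⟩)⟩
  · rw [injective_iff_map_eq_zero]
    intro r hr
    have h : r • w = 0 := congrArg Subtype.val hr
    have e0 : r * q = 0 := by simpa [hwdef] using congrArg (fun m => b.repr m 0) h
    have e1 : r * p = 0 := by simpa [hwdef] using congrArg (fun m => b.repr m 1) h
    by_contra hr0
    have hq0 := (mul_eq_zero.1 e0).resolve_left hr0
    have hp0 := (mul_eq_zero.1 e1).resolve_left hr0
    rw [hq0, hp0] at hpq
    exact not_isUnit_zero (hpq dvd_rfl dvd_rfl)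
  · rintro ⟨m, hm⟩
    have hrel : b.repr m 0 * p + b.repr m 1 * q = 0 :=
      (mul_eq_zero.1 ((hθm m).symm.trans hm)).resolve_left hg
    obtain ⟨z, h0, h1⟩ : ∃ z, b.repr m 0 = z * q ∧ b.repr m 1 = -(z * p) := by
      rcases eq_or_ne q 0 with hq0 | hq0
      · obtain ⟨v, hv⟩ := isRelPrime_zero_right.1 (hq0 ▸ hpq)
        rw [hq0, mul_zero, add_zero] at hrel
        refine ⟨-(b.repr m 1 * ↑v⁻¹), ?_, ?_⟩
        · rw [hq0, mul_zero]
          exact (mul_eq_zero.1 hrel).resolve_right (hv ▸ v.ne_zero)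
        · rw [← hv, neg_mul, neg_neg, mul_assoc, Units.inv_mul, mul_one]
      · obtain ⟨z, hz⟩ := hpq.symm.dvd_of_dvd_mul_right (y := b.repr m 0)
          ⟨-b.repr m 1, by linear_combination hrel⟩
        refine ⟨z, hz.trans (mul_comm _ _), ?_⟩
        have : q * (z * p + b.repr m 1) = 0 := by rw [hz] at hrel; linear_combination hrel
        linear_combination (mul_eq_zero.1 this).resolve_left hq0
    refine ⟨z, Subtype.ext ((b.ext_elem fun i => ?_) : z • w = m)⟩
    show b.repr (z • w) i = b.repr m i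
    fin_cases i <;> simp [hwdef, h0, h1]

end Groth.Agent.Lib.PnStable.Alg
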