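import Groth.Agent.Lib.PnStable.Sheaf

/-!
# The map `det F ⟶ F ⊗ M` attached to `F ⟶ M`
-/

set_option autoImplicit false
set_option linter.style.haveILetI false
universe u

open CategoryTheory CategoryTheory.Limits AlgebraicGeometry Opposite TopologicalSpace
open Groth.Agent.Lib
open Groth.Agent.Lib.TensorMod.Dual (rs rf rs_rs rs_smul)
open Groth.Agent.Lib.Modules.TensorSec (section_ext rs_zero app_rs)
open Groth.Agent.Lib.Modules

noncomputable section

namespace Groth.Agent.Lib.PnStable.Dual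

variable {X : Scheme.{u}}

theorem tg_add_right {F M : X.Modules} {U : X.Opens} (g g' : Γ(M, U)) (m : Γ(F, U)) :
    TensorGen.tg F (g + g') m = TensorGen.tg F g m + TensorGen.tg F g' m := by
  show (SecTwist.tmul F M U m (g + g') : Γ(CohB1.tensorMod F M, U)) = SecTwist.tmul F M U m g + SecTwist.tmul F M U m g'
  rw [← Ample.GenLocus.pairM_id, ← Ample.GenLocus.pairM_id, ← Ample.GenLocus.pairM_id]
  exact TensorMod.Pullback.pairM_add_right _ _ _ _

theorem tg_smul_right {F M : X.Modules} {U : X.Opens} (r : Γ(X, U)) (g : Γ(M, U)) (m : Γ(F, U)) :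
    TensorGen.tg F (r • g) m = r • TensorGen.tg F g m := by
  show (SecTwist.tmul F M U m (r • g) : Γ(CohB1.tensorMod F M, U)) = r • (SecTwist.tmul F M U m g : Γ(CohB1.tensorMod F M, U))
  rw [← Ample.GenLocus.pairM_id, ← Ample.GenLocus.pairM_id]
  exact TensorMod.Pullback.pairM_smul_right _ _ _ _

theorem coords {F M : X.Modules} {U : X.Opens} {g a₀ a₁ : Γ(M, U)} (hg : TensorMod.Gen.IsGen M U g)
    {r₀ r₁ : Γ(X, U)} (h₀ : r₀ • g = a₀) (h₁ : r₁ • g = a₁) {f₀ f₁ : Γ(F, U)}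
    (h : TensorGen.tg F a₁ f₀ - TensorGen.tg F a₀ f₁ = 0) : r₁ • f₀ - r₀ • f₁ = 0 := by
  subst h₀ h₁
  apply TensorGen.tg_injective hg (M := F)
  rw [tg_smul_right, tg_smul_right] at h
  rw [map_sub, map_smul, map_smul, map_zero]
  exact h

/-- `e₀ ∧ e₁ ↦ e₀ ⊗ p e₁ - e₁ ⊗ p e₀`. -/
def alt {F M : X.Modules} {U : X.Opens} (p : Γ(F, U) →ₗ[Γ(X, U)] Γ(M, U)) :
    Γ(F, U) [⋀^Fin 2]→ₗ[Γ(X, U)] Γ(CohB1.tensorMod F M, U) where
  toFun e := TensorGen.tg F (p (e 1)) (e 0) - TensorGen.tg F (p (e 0)) (e 1)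
  map_update_add' := fun {_} m i x y => by
    fin_cases i <;> simp [tg_add_right] <;> abel
  map_update_smul' := fun {_} m i r x => by
    fin_cases i <;> simp [tg_smul_right, smul_sub]
  map_eq_zero_of_eq' := fun v i j h hij => by
    fin_cases i <;> fin_cases j <;> simp_all

set_option maxHeartbeats 800000 in
theorem exists_dual [IsIntegral X] {F L M : X.Modules} (hF : FlatMod.IsFinLocFreeOfRank 2 F)
    (hL : ExtPow.IsExtPow 2 F L) (hM : PicF.IsInvertible M)
    {N : ℕ} (q : FlatMod.freeMod X N ⟶ F) [Epi q] (p : F ⟶ M) (hp : p ≠ 0) :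
    ∃ w : L ⟶ CohB1.tensorMod F M, w ≠ 0 := by
  obtain ⟨φ, hφ⟩ := hL
  let P : ∀ U : X.Opens, Γ(F, U) →ₗ[Γ(X, U)] Γ(M, U) := fun U =>
    { toFun := p.app U, map_add' := map_add _, map_smul' := fun r m => p.app_smul r m }
  let T : ∀ U : X.affineOpens, Γ(L, U.1) →ₗ[Γ(X, U.1)] Γ(CohB1.tensorMod F M, U.1) := fun U =>
    (exteriorPower.alternatingMapLinearEquiv (alt (P U.1))).comp (φ U).toLinearMap
  have hT : ∀ (U : X.affineOpens) (e : Fin 2 → Γ(F, U.1)),
      T U ((φ U).symm (exteriorPower.ιMulti _ 2 e)) = alt (P U.1) e := fun U e =>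
    (congrArg _ ((φ U).apply_symm_apply _)).trans (exteriorPower.alternatingMapLinearEquiv_apply_ιMulti _ _)
  have key : ∀ (U V : X.affineOpens) (h : V.1 ≤ U.1) (e : Fin 2 → Γ(F, U.1)),
      rs (CohB1.tensorMod F M) h (alt (P U.1) e) = alt (P V.1) fun j => rs F h (e j) := fun U V h e => by
    show rs _ h (TensorGen.tg F (p.app U.1 (e 1)) (e 0) - TensorGen.tg F (p.app U.1 (e 0)) (e 1)) = _
    refine ((map_sub _ _ _).trans (congrArg₂ (· - ·) (TensorGen.rs_tg h _ _) (TensorGen.rs_tg h _ _))).trans ?_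
    rw [← app_rs, ← app_rs]
    rfl
  have hnat : ∀ (U V : X.affineOpens) (h : V.1 ≤ U.1) (m : Γ(L, U.1)),
      rs (CohB1.tensorMod F M) h (T U m) = T V (rs L h m) := by
    intro U V h m
    obtain ⟨z, rfl⟩ := (φ U).symm.surjective m
    have hz : z ∈ Submodule.span Γ(X, U.1) (Set.range (exteriorPower.ιMulti Γ(X, U.1) 2)) := by
      rw [exteriorPower.ιMulti_span]; trivial
    induction hz using Submodule.span_induction with
    | mem z hz =>
      obtain ⟨e, rfl⟩ := hz
      refine (congrArg (rs _ h) (hT U e)).trans (Eq.trans ?_ ((congrArg (T V) (hφ U V h e)).trans (hT V _)).symm)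
      exact key U V h e
    | zero =>
      have e0 : (φ U).symm 0 = 0 := map_zero (φ U).symm
      exact ((congrArg (fun z => rs _ h (T U z)) e0).trans ((congrArg (rs _ h) (map_zero (T U))).trans (rs_zero _ _))).trans
        ((congrArg (fun z => T V (rs L h z)) e0).trans ((congrArg (T V) (rs_zero _ _)).trans (map_zero (T V)))).symm
    | add a b _ _ ha hb =>
      have e0 : (φ U).symm (a + b) = (φ U).symm a + (φ U).symm b := map_add (φ U).symm a b
      refine (congrArg (fun z => rs _ h (T U z)) e0).trans (Eq.trans ?_ (congrArg (fun z => T V (rs L h z)) e0).symm)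
      exact ((congrArg (rs _ h) (map_add (T U) _ _)).trans ((map_add _ _ _).trans (congrArg₂ (· + ·) ha hb))).trans
        ((congrArg (T V) (map_add _ _ _)).trans (map_add (T V) _ _)).symm
    | smul r a _ ha =>
      have e0 : (φ U).symm (r • a) = r • (φ U).symm a := map_smul (φ U).symm r a
      refine (congrArg (fun z => rs _ h (T U z)) e0).trans (Eq.trans ?_ (congrArg (fun z => T V (rs L h z)) e0).symm)
      exact ((congrArg (rs _ h) (map_smul (T U) _ _)).trans ((rs_smul _ h r _).trans (congrArg (fun z => rf h r • z) ha))).trans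
        ((congrArg (T V) (rs_smul _ h r _)).trans (map_smul (T V) _ _)).symm
  obtain ⟨w, hw⟩ := AffineHom.exists_hom_of_affine T hnat
  refine ⟨w, fun hw0 => hp (Sheaf.eq_zero_of_sections q p fun s => ?_)⟩
  obtain ⟨x⟩ := (inferInstance : Nonempty X)
  obtain ⟨V, g, hxV, hg⟩ := TensorMod.Gen.isInvertible_iff.1 hM x
  obtain ⟨U, hxU, ⟨i⟩⟩ := hF x
  obtain ⟨e, he⟩ := CurveBundle.Coherent.exists_basis_sections i
  obtain ⟨Z, hZ, hxZ⟩ := AffineHom.exists_affine (X := X) (V := V ⊓ U) (x := x) ⟨hxV, hxU⟩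
  let f : Fin 2 → Γ(F, Z.1) := fun j => rs F (hZ.trans inf_le_right) (e j)
  have h01 : alt (P Z.1) f = 0 :=
    (hT Z f).symm.trans ((hw Z _).symm.trans (congrArg (fun z : L ⟶ _ => z.app Z.1 _) hw0))
  have hg' := hg.res (hZ.trans inf_le_left : Z.1 ≤ V)
  obtain ⟨r₀, hr₀⟩ := Ample.GenLocus.exists_coord hg' (p.app Z.1 (f 0))
  obtain ⟨r₁, hr₁⟩ := Ample.GenLocus.exists_coord hg' (p.app Z.1 (f 1))
  change TensorGen.tg F (p.app Z.1 (f 1)) (f 0) - TensorGen.tg F (p.app Z.1 (f 0)) (f 1) = 0 at h01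
  have hcomb := coords hg' hr₀.symm hr₁.symm h01
  have hgm : ∀ j, F.presheaf.germ Z.1 x hxZ (f j) = F.presheaf.germ U x hxU (e j) := fun j =>
    TopCat.Presheaf.germ_res_apply F.presheaf _ _ _ _
  have hc := congrArg (F.presheaf.germ Z.1 x hxZ) hcomb
  rw [map_sub, map_zero, StalkModule.germ_smul, StalkModule.germ_smul, hgm, hgm, sub_eq_add_neg, ← neg_smul] at hc
  have hz := Fintype.linearIndependent_iff.1 (he x hxU).1
    ![X.presheaf.germ Z.1 x hxZ r₁, -X.presheaf.germ Z.1 x hxZ r₀] (by simpa [Fin.sum_univ_two] using hc)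
  have hz₁ : X.presheaf.germ Z.1 x hxZ r₁ = 0 := by simpa using hz 0
  have hz₀ : X.presheaf.germ Z.1 x hxZ r₀ = 0 := by simpa using hz 1
  have hpe : ∀ j, StalkModule.stalkMapₗ p x (F.presheaf.germ U x hxU (e j)) = 0 := fun j => by
    rw [← hgm, StalkModule.stalkMapₗ_germ]
    fin_cases j
    · simp [hr₀, StalkModule.germ_smul, hz₀]
    · simp [hr₁, StalkModule.germ_smul, hz₁]
  by_contra hne
  refine Sheaf.germ_ne_zero (Sheaf.hasDBases_of_invertible hM) hne x ?_
  have h0 : StalkModule.stalkMapₗ p x = 0 := LinearMap.ext_on_range (he x hxU).2 fun j => hpe j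
  exact (StalkModule.stalkMapₗ_germ p (Opens.mem_top x) s).symm.trans (LinearMap.congr_fun h0 _)

end Groth.Agent.Lib.PnStable.Dual
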