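import Groth.Agent.Lib.PnStable.Serre
import Groth.Agent.Lib.ArtinFun.HomFinite
import Groth.Agent.Lib.CohDelta.IdealMul.DevExt

/-!
# Two-term resolutions by negative twists on the plane
-/

set_option autoImplicit false
set_option linter.style.haveILetI false
universe u

open CategoryTheory CategoryTheory.Limits AlgebraicGeometry
open CategoryTheory.Abelian

noncomputable section

namespace Groth.Agent.Lib.PnStable.Resolution

open Groth.Agent.Lib TensorMod.Basic ProjCoh ProjCoh.Coherent ProjCoh.Sections CurveBundle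

variable {n : ℕ} {k : Type u} [Field k]

theorem hom_zero_neg (hn : 0 < n) {a b : ℤ} (h : b < a) (f : tw n k a ⟶ tw n k b) : f = 0 := by
  haveI := SerreDual.subsingleton_hom_neg (n := n) (R := k) hn h
  let e : (tw n k a ⟶ tw n k b) ≃ (TS n k a ⟶ TS n k b) := (twIso a).homCongr (twIso b)
  exact e.injective (Subsingleton.elim _ _)

theorem hom_sum_zero {C : Type*} [Category C] [Preadditive C] {ι : Type} [Fintype ι] [DecidableEq ι] {A : ι → C}
    [HasFiniteBiproducts C] {Z : C} (h : ∀ i, ∀ f : Z ⟶ A i, f = 0) (f : Z ⟶ ∐ A) : f = 0 := by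
  refine (cancel_mono (biproduct.isoCoproduct A).inv).1 (Eq.trans (biproduct.hom_ext _ _ fun i => ?_) zero_comp.symm)
  rw [zero_comp]
  exact h i _

theorem subsingleton_h1_iff [HasExt.{u} (CohB1.ProjSpace n k).Modules] (M : (CohB1.ProjSpace n k).Modules) (d : ℤ)
    (h : Subsingleton (Coh.HH (CohB1.ProjSpace n k) (CohB1.tensorMod M (tw n k d)) 1)) :
    Subsingleton (Ext.{u} (tw n k (-d)) M 1) := by
  refine SerreDual.subsingleton_ext_equiv (tensorBy (tw n k d)) _ _ 1 ?_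
  exact SerreDual.subsingleton_ext_iso (twCancel (-d) d (neg_add_cancel d)) (Iso.refl _) 1
    ((ExtHH.Basic.extUnitEquiv k (CohB1.tensorMod M (tw n k d)) 1).injective.subsingleton)

theorem h1_of_ext [HasExt.{u} (CohB1.ProjSpace n k).Modules] (M : (CohB1.ProjSpace n k).Modules) (d : ℤ)
    (h : Subsingleton (Ext.{u} (tw n k (-d)) M 1)) :
    Subsingleton (Coh.HH (CohB1.ProjSpace n k) (CohB1.tensorMod M (tw n k d)) 1) := by
  haveI : Subsingleton (Ext.{u} (Coh.structureModule (CohB1.ProjSpace n k)) (CohB1.tensorMod M (tw n k d)) 1) := by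
    haveI : (tensorBy (tw n k (-d))).IsEquivalence := CurveBundle.Twist.isEquivalence (isInvertible_tw _)
    haveI : (tensorBy (tw n k (-d))).Additive := GP.additive_tensorBy _
    refine SerreDual.subsingleton_ext_equiv (tensorBy (tw n k (-d))) _ _ 1 ?_
    exact SerreDual.subsingleton_ext_iso (leftUnit _)
      (assoc _ _ _ ≪≫ tensorIso (Iso.refl M) (twCancel d (-d) (add_neg_cancel d)) ≪≫ rightUnit M) 1 h
  exact (ExtHH.Basic.extUnitEquiv k (CohB1.tensorMod M (tw n k d)) 1).symm.injective.subsingleton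

/-- A module with no maps from `O(t)`, `t ≥ 0`, on the plane has a resolution by negative twists. -/
theorem exists_resolution (F : (CohB1.ProjSpace 2 k).Modules) (hF : Coh.IsCoh F) (hne : ¬ IsZero F)
    (h0 : ∀ t : ℤ, 0 ≤ t → ∀ f : tw 2 k t ⟶ F, f = 0) :
    ∃ (r s : ℕ) (kk : Fin r → ℤ) (mm : Fin s → ℤ) (S : ShortComplex (CohB1.ProjSpace 2 k).Modules),
      S.ShortExact ∧ (∀ i, kk i < 0) ∧ (∀ j, mm j < 0) ∧
      Nonempty (S.X₁ ≅ ∐ fun i : Fin r => Twist.twistProjSpace 2 k (kk i)) ∧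
      Nonempty (S.X₂ ≅ ∐ fun j : Fin s => Twist.twistProjSpace 2 k (mm j)) ∧
      Nonempty (S.X₃ ≅ F) := by
  classical
  haveI := hasExt_of_enoughInjectives.{u} (CohB1.ProjSpace 2 k).Modules
  haveI : HasFiniteBiproducts (CohB1.ProjSpace 2 k).Modules := HasFiniteBiproducts.of_hasFiniteProducts
  haveI : IsProper (CohB1.ProjSpace 2 k ↘ Spec (CommRingCat.of k)) := ProjSpace.Basic.isProper_toSpec 2 k
  obtain ⟨l, m0, p0', hp0'⟩ := Coherent.exists_epi F hF
  let e0 : (∐ fun _ : Fin l => tw 2 k (-(m0 : ℤ))) ≅ sumTS 2 k l (-(m0 : ℤ)) := Sigma.mapIso fun _ => twIso _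
  let p0 := e0.hom ≫ p0'
  haveI : Epi p0 := epi_comp _ _
  have hm0 : 1 ≤ m0 := by
    by_contra hm
    have hz : p0 = 0 := Sigma.hom_ext _ _ fun i => by
      rw [comp_zero]; exact h0 _ (by omega) _
    exact hne (IsZero.of_epi_eq_zero p0 hz)
  have hK0 : Coh.IsCoh (kernel p0) := by
    refine CohBasics.Closure.isCoh_kernel p0 ?_ hF.1
    exact CohBasics.Closure.isCoh_of_iso e0.symm (isCoh_sumTS l _)
  obtain ⟨d₀, hd₀⟩ := Coherent.exists_forall_subsingleton (kernel p0) hK0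
  let T := d₀
  haveI : ∀ t : Fin T, Module.Finite k (tw 2 k (-((t : ℤ) + 1)) ⟶ F) := fun t =>
    ArtinFun.HomFinite.finite_hom (isCoh_tw _) hF
  let ι := Fin l ⊕ (Σ t : Fin T, Fin (Module.finrank k (tw 2 k (-((t : ℤ) + 1)) ⟶ F)))
  let σ : Fin (Fintype.card ι) ≃ ι := (Fintype.equivFin ι).symm
  let deg : ι → ℤ := Sum.elim (fun _ => -(m0 : ℤ)) fun x => -((x.1 : ℤ) + 1)
  let gen : ∀ i : ι, tw 2 k (deg i) ⟶ F := fun i => match i with
    | .inl a => Sigma.ι (fun _ : Fin l => tw 2 k (-(m0 : ℤ))) a ≫ p0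
    | .inr x => Module.finBasis k (tw 2 k (-((x.1 : ℤ) + 1)) ⟶ F) x.2
  let mm : Fin (Fintype.card ι) → ℤ := fun j => deg (σ j)
  let Q := ∐ fun j => tw 2 k (mm j)
  let p : Q ⟶ F := Sigma.desc fun j => gen (σ j)
  have hgen : ∀ i, ∃ g : tw 2 k (deg i) ⟶ Q, g ≫ p = gen i := fun i => by
    obtain ⟨j, rfl⟩ := σ.surjective i
    exact ⟨Sigma.ι (fun j => tw 2 k (mm j)) j, Sigma.ι_desc _ _⟩
  choose g hg using hgen
  let j0 : (∐ fun _ : Fin l => tw 2 k (-(m0 : ℤ))) ⟶ Q := Sigma.desc fun a => g (.inl a)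
  have hj0 : j0 ≫ p = p0 := Sigma.hom_ext _ _ fun a => (Sigma.ι_desc_assoc _ _ _).trans (hg (.inl a))
  haveI : Epi p := epi_of_epi_fac hj0
  let S : ShortComplex (CohB1.ProjSpace 2 k).Modules := ShortComplex.mk (kernel.ι p) p (kernel.condition p)
  have hS : S.ShortExact :=
    { exact := ShortComplex.exact_of_f_is_kernel _ (kernelIsKernel p), epi_g := ‹Epi p› }
  have hS0 : (ShortComplex.mk (kernel.ι p0) p0 (kernel.condition p0)).ShortExact :=
    { exact := ShortComplex.exact_of_f_is_kernel _ (kernelIsKernel p0), epi_g := ‹Epi p0› }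
  -- surjectivity on all twists
  have hlift : ∀ (d : ℤ) (f : tw 2 k (-d) ⟶ F), ∃ y : tw 2 k (-d) ⟶ Q, y ≫ p = f := fun d f => by
    rcases lt_or_ge d 1 with hd | hd
    · exact ⟨0, zero_comp.trans (h0 _ (by omega) f).symm⟩
    rcases lt_or_ge (T : ℤ) d with hT | hT
    · haveI := subsingleton_h1_iff (kernel p0) d (hd₀ d (by omega) 0)
      obtain ⟨x, hx⟩ := Ext.covariant_sequence_exact₃ _ hS0 (Ext.mk₀ f) (zero_add 1) (Subsingleton.elim _ _)
      obtain ⟨y, rfl⟩ := (Ext.mk₀_bijective _ _).2 x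
      exact ⟨y ≫ j0, (Category.assoc _ _ _).trans ((congrArg (y ≫ ·) hj0).trans
        ((Ext.mk₀_bijective _ _).1 ((Ext.mk₀_comp_mk₀ y p0).symm.trans hx)))⟩
    · obtain ⟨t, rfl⟩ : ∃ t : Fin T, d = (t : ℤ) + 1 := ⟨⟨(d - 1).toNat, by omega⟩, by simp; omega⟩
      let b := Module.finBasis k (tw 2 k (-((t : ℤ) + 1)) ⟶ F)
      let g' : Fin (Module.finrank k (tw 2 k (-((t : ℤ) + 1)) ⟶ F)) → (tw 2 k (-((t : ℤ) + 1)) ⟶ Q) :=
        fun i => g (.inr ⟨t, i⟩)
      have hg' : ∀ i, g' i ≫ p = b i := fun i => hg (.inr ⟨t, i⟩)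
      refine ⟨∑ i, b.repr f i • g' i, ?_⟩
      rw [Preadditive.sum_comp]
      refine Eq.trans ?_ (b.sum_repr f)
      exact Finset.sum_congr rfl fun i _ => by rw [Linear.smul_comp, hg']
  have hQc : Coh.IsCoh Q := CohBasics.Closure.isCoh_of_iso (biproduct.isoCoproduct _)
    (CohDelta.IdealMul.DevExt.isCoh_biproduct _ fun j => isCoh_tw (mm j))
  have hKc : Coh.IsCoh (kernel p) := CohBasics.Closure.isCoh_kernel p hQc hF.1
  have hmm : ∀ j, mm j < 0 := fun j => by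
    show deg (σ j) < 0
    rcases σ j with a | x
    · show -(m0 : ℤ) < 0; omega
    · show -((x.1 : ℤ) + 1) < 0; omega
  have hext : ∀ d : ℤ, Subsingleton (Ext.{u} (tw 2 k (-d)) (kernel p) 1) := fun d =>
    subsingleton_of_forall_eq 0 fun x => by
      obtain ⟨f, hf⟩ := Ext.covariant_sequence_exact₁ _ hS x
        ((subsingleton_h1_iff Q d (Horrocks.mid_of_sum mm (Iso.refl _) d 1 le_rfl one_lt_two)).elim _ _)
        (zero_add 1)
      obtain ⟨f', rfl⟩ := (Ext.mk₀_bijective _ _).2 f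
      obtain ⟨y, rfl⟩ := hlift d f'
      rw [← hf, ← Ext.mk₀_comp_mk₀]
      exact (Ext.comp_assoc _ _ _ (zero_add 0) (zero_add 1) (by omega)).trans
        ((congrArg (fun z => (Ext.mk₀ y).comp z (zero_add 1)) hS.comp_extClass).trans (Ext.comp_zero _ _ _ _ _))
  have hlow : ∀ t : ℤ, 0 ≤ t → ∀ f : tw 2 k t ⟶ kernel p, f = 0 := fun t ht f => by
    refine (cancel_mono (kernel.ι p)).1 (Eq.trans ?_ zero_comp.symm)
    exact hom_sum_zero (fun j => hom_zero_neg two_pos (lt_of_lt_of_le (hmm j) ht)) _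
  obtain ⟨r, kk, ⟨eK⟩⟩ := Horrocks.exists_iso_sum one_le_two (kernel p)
    ⟨hKc, fun d i h1 h2 => by
      obtain rfl : i = 1 := by omega
      exact h1_of_ext _ d (hext d),
    ⟨0, fun d hd => (Serre.subsingleton_h0_iff _ d).2 (hlow _ (by omega))⟩⟩
  refine ⟨r, _, kk, mm, S, hS, fun i => ?_, hmm, ⟨eK⟩, ⟨Iso.refl _⟩, ⟨Iso.refl _⟩⟩
  by_contra hi
  have h1 : Sigma.ι (fun i => tw 2 k (kk i)) i ≫ eK.inv = 0 := hlow _ (by omega) _
  have h2 : Sigma.ι (fun i => tw 2 k (kk i)) i = 0 := (cancel_mono eK.inv).1 (h1.trans zero_comp.symm)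
  refine PnOmega.not_isZero_tw (n := 2) (k := k) (kk i) ?_
  rw [IsZero.iff_id_eq_zero, ← Sigma.ι_π_eq_id (fun i => tw 2 k (kk i)) i, h2, zero_comp]

end Groth.Agent.Lib.PnStable.Resolution
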