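import Groth.Agent.Lib.PnStable.Alg
import Groth.Agent.Lib.PnOmega.Wedge
import Groth.Agent.Lib.RefHull.RegNormal
import Groth.Agent.Lib.Modules.StalkModule
import Groth.Agent.Lib.Modules.TensorGen
import Groth.Agent.Lib.CohBasics.Closure

/-!
# Singular endomorphisms of rank two bundles on regular schemes
-/

set_option autoImplicit false
set_option linter.style.haveILetI false
universe u

open CategoryTheory CategoryTheory.Limits AlgebraicGeometry Opposite TopologicalSpace
open Groth.Agent.Lib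
open Groth.Agent.Lib.TensorMod.Dual (rs rf rs_rs rs_smul)
open Groth.Agent.Lib.Modules.TensorSec (section_ext rs_zero app_rs)
open Groth.Agent.Lib.Modules

noncomputable section

namespace Groth.Agent.Lib.PnStable.Sheaf

variable {X : Scheme.{u}} [IsIntegral X]

/-- A nonzero global section of a module with dual bases has nonzero germs. -/
theorem germ_ne_zero {M : X.Modules} (hM : DualBasis.HasDBases M) {t : Γ(M, ⊤)} (ht : t ≠ 0) (x : X) :
    M.presheaf.germ ⊤ x trivial t ≠ 0 := fun h => ht (by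
  obtain ⟨W, hxW, i, i', hW⟩ := M.presheaf.germ_eq x (Opens.mem_top x) (Opens.mem_top x) t 0
    (h.trans (map_zero _).symm)
  exact BirMap96.SecProd.rs_injective hM (W := W) ⟨x, hxW⟩ (hW.trans (map_zero _)))

theorem hasDBases_of_invertible {L : X.Modules} (hL : PicF.IsInvertible L) : DualBasis.HasDBases L :=
  DualBasis.hasDBases_of_isFinLocFree (TensorMod.LocFree.of_rank (TensorMod.LocFree.of_isInvertible hL))

/-- The kernel of a nonzero map from a rank two bundle to a line bundle on a regular scheme is a line bundle. -/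
theorem isInvertible_kernel [IsLocallyNoetherian X] (hreg : ∀ x : X, IsRegularLocalRing (X.presheaf.stalk x))
    {F L : X.Modules} (hF : FlatMod.IsFinLocFreeOfRank 2 F) (hL : PicF.IsInvertible L)
    (t : F ⟶ L) {s : Γ(F, ⊤)} (hs : t.app ⊤ s ≠ 0) : PicF.IsInvertible (kernel t) := by
  have hFc : Coh.IsCoh F := Perfect.Coherent.isCoh_of_isFinLocFree (TensorMod.LocFree.of_rank hF)
  have hLc : Coh.IsCoh L := Ample.GG.isCoh_of_isInvertible hL
  haveI := hLc.1
  have hKc : Coh.IsCoh (kernel t) := CohBasics.Closure.isCoh_kernel t hFc hLc.1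
  have hb : ∀ x : X, Nonempty (Module.Basis (Fin 1) (X.presheaf.stalk x) ((kernel t).presheaf.stalk x)) := fun x => by
    haveI := hreg x
    haveI := Regular.UFD.uniqueFactorizationMonoid (X.presheaf.stalk x)
    obtain ⟨U, hx, ⟨i⟩⟩ := hF x
    obtain ⟨e, he⟩ := CurveBundle.Coherent.exists_basis_sections i
    let b : Module.Basis (Fin 2) (X.presheaf.stalk x) (F.presheaf.stalk x) :=
      Module.Basis.mk (he _ hx).1 (he _ hx).2.ge
    obtain ⟨V, g, hxV, hg⟩ := TensorMod.Gen.isInvertible_iff.1 hL x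
    let γ : X.presheaf.stalk x ≃ₗ[X.presheaf.stalk x] L.presheaf.stalk x :=
      LinearEquiv.ofBijective (LinearMap.toSpanSingleton _ _ (L.presheaf.germ V x hxV g))
        (TensorGen.bijective_germ_smul hg hxV)
    let θ := γ.symm.toLinearMap.comp (StalkModule.stalkMapₗ t x)
    have hθ : θ ≠ 0 := fun h => by
      refine germ_ne_zero (hasDBases_of_invertible hL) hs x ?_
      have h2 := LinearMap.congr_fun h (F.presheaf.germ ⊤ x trivial s)
      have h3 := γ.symm.injective (h2.trans (map_zero γ.symm).symm)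
      exact (StalkModule.stalkMapₗ_germ t (Opens.mem_top x) s).symm.trans h3
    obtain ⟨bk⟩ := Alg.exists_basis_ker b θ hθ
    let ι : (kernel t).presheaf.stalk x →ₗ[X.presheaf.stalk x] LinearMap.ker θ :=
      (StalkModule.stalkMapₗ (kernel.ι t) x).codRestrict _ fun v => by
        show γ.symm (StalkModule.stalkMapₗ t x (StalkModule.stalkMapₗ (kernel.ι t) x v)) = 0
        rw [← LinearMap.comp_apply, ← StalkModule.stalkMapₗ_comp, kernel.condition, StalkModule.stalkMapₗ_zero,
          LinearMap.zero_apply, map_zero]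
    refine ⟨bk.map (LinearEquiv.ofBijective ι ⟨fun v w h => ?_, ?_⟩).symm⟩
    · exact (StalkModule.mono_iff_stalkMapₗ_injective (kernel.ι t)).1 inferInstance x (congrArg Subtype.val h)
    · rintro ⟨v, hv⟩
      have hS : (ShortComplex.mk (kernel.ι t) t (kernel.condition t)).Exact := ShortComplex.exact_kernel t
      obtain ⟨w, hw⟩ := (ShortComplex.ab_exact_iff _).1 ((Stalk.exact_iff_stalk _).1 hS x) v
        (γ.symm.injective (hv.trans (map_zero γ.symm).symm))
      exact ⟨w, Subtype.ext hw⟩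
  refine TensorMod.LocFree.isInvertible_of_rank_one fun x => ?_
  obtain ⟨U, n, hx, ⟨i⟩⟩ :=
    RefHull.LocFree.isFinLocFree hKc (fun y => Module.Free.of_basis (hb y).some) x
  obtain ⟨e, he⟩ := CurveBundle.Coherent.exists_basis_sections i
  let b : Module.Basis (Fin n) (X.presheaf.stalk x) ((kernel t).presheaf.stalk x) :=
    Module.Basis.mk (he _ hx).1 (he _ hx).2.ge
  have h1 := (Module.finrank_eq_card_basis b).symm.trans (Module.finrank_eq_card_basis (hb x).some)
  rw [Fintype.card_fin, Fintype.card_fin] at h1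
  subst h1
  exact ⟨U, hx, ⟨i⟩⟩

variable {F L : X.Modules}

omit [IsIntegral X] in
theorem eq_zero_of_sections {M : X.Modules} {N : ℕ} (p : FlatMod.freeMod X N ⟶ F) [Epi p] (t : F ⟶ M)
    (h : ∀ s : Γ(F, ⊤), t.app ⊤ s = 0) : t = 0 :=
  (cancel_epi p).1 (Modules.Free.freeHom_ext fun i => by
    rw [Scheme.Modules.Hom.comp_app, CategoryTheory.comp_apply, h, comp_zero]
    rfl)

omit [IsIntegral X] in
/-- Restrictions of sections along affine morphisms. -/
theorem app_section (t : F ⟶ L) (W : X.Opens) (s : Γ(F, ⊤)) :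
    rs L (le_top : W ≤ ⊤) (t.app ⊤ s) = t.app W (rs F le_top s) := (app_rs _ _ _).symm

/-- A singular endomorphism factors through a line bundle. -/
theorem exists_factor [IsLocallyNoetherian X] (hreg : ∀ x : X, IsRegularLocalRing (X.presheaf.stalk x))
    (hF : FlatMod.IsFinLocFreeOfRank 2 F) (hLi : PicF.IsInvertible L) (hL : ExtPow.IsExtPow 2 F L)
    {N : ℕ} (p : FlatMod.freeMod X N ⟶ F) [Epi p] (φ : F ⟶ F) {s₀ s₁ : Γ(F, ⊤)}
    (h₀ : φ.app ⊤ s₀ ≠ 0) (hs₁ : s₁ ≠ 0) (h₁ : φ.app ⊤ s₁ = 0) :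
    ∃ (J : X.Modules) (pr : F ⟶ J) (ι : J ⟶ F), PicF.IsInvertible J ∧ pr ≫ ι = φ := by
  have hDB : DualBasis.HasDBases F :=
    DualBasis.hasDBases_of_isFinLocFree (TensorMod.LocFree.of_rank hF)
  obtain ⟨t, ht0, -, -, ht⟩ := PnOmega.Wedge.exists_wedge hF hL h₀
  obtain ⟨s, hs⟩ : ∃ s, t.app ⊤ s ≠ 0 := by
    by_contra hall
    push Not at hall
    exact ht0 (eq_zero_of_sections p t hall)
  obtain ⟨ψ, hψ, htψ⟩ := ht
  have hzero : φ ≫ t = 0 := eq_zero_of_sections p _ fun y => by
    obtain ⟨x⟩ := (inferInstance : Nonempty X)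
    obtain ⟨W, hW, hxW, ⟨b⟩⟩ := GrassBdl.Emb.exists_basis hF x
    haveI : Nonempty W := ⟨⟨x, hxW⟩⟩
    haveI : IsDomain Γ(X, W) := IsIntegral.component_integral W
    refine BirMap96.SecProd.rs_injective (hasDBases_of_invertible hLi) (W := W) ⟨x, hxW⟩ ?_
    let f : Γ(F, W) →ₗ[Γ(X, W)] Γ(F, W) :=
      { toFun := φ.app W, map_add' := map_add _, map_smul' := fun r m => (φ.app_smul r m) }
    rw [Scheme.Modules.Hom.comp_app, CategoryTheory.comp_apply, app_section, app_section]
    refine (htψ ⟨W, hW⟩ _).trans ?_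
    refine (congrArg (ψ ⟨W, hW⟩) ((congrArg (fun z => exteriorPower.ιMulti Γ(X, W) 2 ![z, φ.app W (rs F le_top y)])
      (app_section φ W s₀)).trans ?_)).trans (map_zero _)
    refine Alg.wedge_image b f (v := rs F le_top s₁)
      (fun h => hs₁ (BirMap96.SecProd.rs_injective hDB ⟨x, hxW⟩ h)) ?_ _ _
    exact ((app_section φ W s₁).symm.trans (congrArg _ h₁)).trans (rs_zero _ _)
  exact ⟨kernel t, kernel.lift t φ hzero, kernel.ι t, isInvertible_kernel hreg hF hLi t hs,
    kernel.lift_ι _ _ _⟩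

end Groth.Agent.Lib.PnStable.Sheaf
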